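import Cfsg.Agent.H254.FxTools
import Cfsg.Agent.H104.Closed_m3
import Cfsg.Agent.S0243
import Cfsg.Agent.Prune
set_option linter.all false
prune_inst 0x7f00000000000000000000000000000000000000000000000000000000000000000000000000000000000000000000000000000000000000000000000000000000000000000000000000000000000000003fffffffffffffffffffffffffffbeffbdffffffff
open scoped Cfsg.Agent.FastGrp

/-!
# Rows `PSL_n(q)` for fixity 3 and 4: block embeddings
-/

set_option autoImplicit false
set_option linter.style.haveILetI false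

namespace Cfsg.Agent.H807.Fx

open Matrix Subgroup
open Cfsg.Agent.H254.Fx
open Cfsg.Agent.H104.GoodFam Cfsg.Agent.H104.RowPSL

variable {F : Type} [Field F]

/-- `A ↦ diag(A, 1)` modulo scalars -/
def em (e e' : ℕ) : SpecialLinearGroup (Fin e) F →* ProjectiveSpecialLinearGroup (Fin (e + e')) F :=
  (QuotientGroup.mk' (center (SpecialLinearGroup (Fin (e + e')) F))).comp
    ((relabel finSumFinEquiv).comp (blk (Fin e) (Fin e')))

/-- `A ↦ diag(1, A)` modulo scalars -/
def em₂ (e e' : ℕ) : SpecialLinearGroup (Fin e') F →* ProjectiveSpecialLinearGroup (Fin (e + e')) F :=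
  (QuotientGroup.mk' (center (SpecialLinearGroup (Fin (e + e')) F))).comp
    ((relabel finSumFinEquiv).comp (blk₂ (Fin e) (Fin e')))

theorem em_comm {e e' : ℕ} (A : SpecialLinearGroup (Fin e) F) (B : SpecialLinearGroup (Fin e') F) :
    em e e' A * em₂ e e' B = em₂ e e' B * em e e' A := by
  unfold em em₂
  simp only [MonoidHom.comp_apply]
  rw [← map_mul, ← map_mul, ← map_mul, ← map_mul, blk_comm]

theorem em_injective {e e' : ℕ} (he : 0 < e') : Function.Injective (em e e' : SpecialLinearGroup (Fin e) F →* _) := by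
  rw [injective_iff_map_eq_one]
  intro A hA
  obtain ⟨c, -, h⟩ := (mk_eq_one_iff _).1 hA
  rw [MonoidHom.comp_apply] at h
  have h1 : ∀ i j, ((relabel finSumFinEquiv (blk (Fin e) (Fin e') A) : SpecialLinearGroup (Fin (e + e')) F) :
      Matrix _ _ F) (finSumFinEquiv i) (finSumFinEquiv j) =
        (fromBlocks (A : Matrix (Fin e) (Fin e) F) 0 0 1 : Matrix (Fin e ⊕ Fin e') (Fin e ⊕ Fin e') F) i j := by
    intro i j
    change (fromBlocks (A : Matrix (Fin e) (Fin e) F) 0 0 1).submatrix finSumFinEquiv.symm finSumFinEquiv.symm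
      (finSumFinEquiv i) (finSumFinEquiv j) = _
    simp
  have h2 := h1 (.inr ⟨0, he⟩) (.inr ⟨0, he⟩)
  rw [h] at h2
  simp only [scalar_apply, diagonal_apply_eq, fromBlocks_apply₂₂, one_apply_eq] at h2
  subst h2
  apply blk_injective (Fin e) (Fin e')
  apply relabel_injective finSumFinEquiv
  rw [map_one, map_one]
  apply Subtype.ext
  rw [h, map_one]
  rfl

theorem em₂_injective {e e' : ℕ} (he : 0 < e) : Function.Injective (em₂ e e' : SpecialLinearGroup (Fin e') F →* _) := by
  rw [injective_iff_map_eq_one]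
  intro A hA
  obtain ⟨c, -, h⟩ := (mk_eq_one_iff _).1 hA
  rw [MonoidHom.comp_apply] at h
  have h1 : ∀ i j, ((relabel finSumFinEquiv (blk₂ (Fin e) (Fin e') A) : SpecialLinearGroup (Fin (e + e')) F) :
      Matrix _ _ F) (finSumFinEquiv i) (finSumFinEquiv j) =
        (fromBlocks 1 0 0 (A : Matrix (Fin e') (Fin e') F) : Matrix (Fin e ⊕ Fin e') (Fin e ⊕ Fin e') F) i j := by
    intro i j
    change (fromBlocks 1 0 0 (A : Matrix (Fin e') (Fin e') F)).submatrix finSumFinEquiv.symm finSumFinEquiv.symm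
      (finSumFinEquiv i) (finSumFinEquiv j) = _
    simp
  have h2 := h1 (.inl ⟨0, he⟩) (.inl ⟨0, he⟩)
  rw [h] at h2
  simp only [scalar_apply, diagonal_apply_eq, fromBlocks_apply₁₁, one_apply_eq] at h2
  subst h2
  apply Subtype.ext
  ext i j
  have h3 := h1 (.inr i) (.inr j)
  rw [h, fromBlocks_apply₂₂] at h3
  rw [← h3]
  simp [Matrix.one_apply, Matrix.diagonal_apply]

/-- elements of `SL_e` of order `r` -/
theorem orderOf_em {e e' r : ℕ} (he : 0 < e') {y : SpecialLinearGroup (Fin e) F} (hy : orderOf y = r) :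
    orderOf (em e e' y) = r := by
  rw [orderOf_injective (em e e') (em_injective he), hy]

section fin

variable [Fintype F]

theorem card_SL_two : Nat.card (SpecialLinearGroup (Fin 2) F) = Fintype.card F * (Fintype.card F ^ 2 - 1) := by
  have h := Cfsg.Agent.S0242.result (F := F) rfl 2 (by norm_num)
  rw [Fin.prod_univ_two] at h
  have hq : 2 ≤ Fintype.card F := Fintype.one_lt_card
  obtain ⟨q, hq'⟩ : ∃ q, Fintype.card F = q + 2 := ⟨Fintype.card F - 2, by omega⟩
  rw [hq'] at h ⊢
  have e1 : q + 2 - 1 = q + 1 := by omega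
  have e2 : (q + 2) ^ 2 - (q + 2) ^ ((1 : Fin 2) : ℕ) = (q + 2) * (q + 1) := by
    have : ((1 : Fin 2) : ℕ) = 1 := rfl
    rw [this, Nat.sub_eq_iff_eq_add (Nat.pow_le_pow_right (by omega) (by norm_num))]
    ring
  have e3 : ((0 : Fin 2) : ℕ) = 0 := rfl
  rw [e1, e2, e3, pow_zero] at h
  have h1 : (q + 1) * Nat.card (SpecialLinearGroup (Fin 2) F) = (q + 1) * ((q + 2) * ((q + 2) ^ 2 - 1)) := by
    rw [h]; ring
  exact Nat.eq_of_mul_eq_mul_left (by omega) h1

theorem eight_dvd_sq {q : ℕ} (h : Odd q) : 8 ∣ q ^ 2 - 1 := by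
  obtain ⟨k, rfl⟩ := h
  obtain ⟨m, hm⟩ := Nat.even_mul_succ_self k
  have : (2 * k + 1) ^ 2 - 1 = 8 * m := by
    rw [Nat.sub_eq_iff_eq_add (Nat.one_le_pow _ _ (by omega))]
    have : (2 * k + 1) ^ 2 = 4 * (k * (k + 1)) + 1 := by ring
    rw [this, hm]; ring
  rw [this]
  exact dvd_mul_right _ _

theorem eight_dvd_SL_two (h : Odd (Fintype.card F)) : 8 ∣ Nat.card (SpecialLinearGroup (Fin 2) F) := by
  rw [card_SL_two]
  exact Dvd.dvd.mul_left (eight_dvd_sq h) _

instance finite_SL (n : ℕ) : Finite (SpecialLinearGroup (Fin n) F) := inferInstance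

theorem card_SL_three_dvd : 8 ∣ Nat.card (SpecialLinearGroup (Fin 3) F) := by
  rcases Nat.even_or_odd (Fintype.card F) with he | ho
  · have h := Cfsg.Agent.S0242.result (F := F) rfl 3 (by norm_num)
    rw [Fin.prod_univ_three] at h
    have hq : 2 ≤ Fintype.card F := Fintype.one_lt_card
    have hcop : Nat.Coprime 8 (Fintype.card F - 1) := by
      have h1 : Nat.Coprime 2 (Fintype.card F - 1) := by
        rw [Nat.coprime_two_left]
        exact Nat.Even.sub_odd (by omega) he odd_one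
      exact (Nat.Coprime.pow_left 3 h1)
    refine hcop.dvd_of_dvd_mul_left (m := Fintype.card F - 1) ?_
    rw [h]
    obtain ⟨k, hk⟩ := he
    have e1 : ((1 : Fin 3) : ℕ) = 1 := rfl
    have e2 : ((2 : Fin 3) : ℕ) = 2 := rfl
    rw [e1, e2]
    have h2 : 2 ∣ Fintype.card F := ⟨k, by omega⟩
    have h3 : 2 ^ 1 ∣ Fintype.card F ^ 3 - Fintype.card F ^ 1 :=
      Nat.dvd_sub ((pow_dvd_pow 2 (by norm_num)).trans (pow_dvd_pow_of_dvd h2 3)) (pow_dvd_pow_of_dvd h2 1)
    have h4 : 2 ^ 2 ∣ Fintype.card F ^ 3 - Fintype.card F ^ 2 :=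
      Nat.dvd_sub ((pow_dvd_pow 2 (by norm_num)).trans (pow_dvd_pow_of_dvd h2 3)) (pow_dvd_pow_of_dvd h2 2)
    have h5 := mul_dvd_mul h3 h4
    rw [mul_assoc]
    exact Dvd.dvd.mul_left h5 _
  · have h1 := eight_dvd_SL_two ho
    refine h1.trans ?_
    have h2 : Function.Injective ((relabel (finSumFinEquiv (m := 2) (n := 1))).comp (blk (Fin 2) (Fin 1)) :
        SpecialLinearGroup (Fin 2) F →* SpecialLinearGroup (Fin 3) F) :=
      (relabel_injective _).comp (blk_injective _ _)
    exact Subgroup.card_dvd_of_injective _ h2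

theorem eight_dvd_SL {k : ℕ} (hk : 3 ≤ k) : 8 ∣ Nat.card (SpecialLinearGroup (Fin k) F) := by
  obtain ⟨j, rfl⟩ : ∃ j, k = 3 + j := ⟨k - 3, by omega⟩
  refine (card_SL_three_dvd (F := F)).trans ?_
  have h2 : Function.Injective ((relabel (finSumFinEquiv (m := 3) (n := j))).comp (blk (Fin 3) (Fin j)) :
      SpecialLinearGroup (Fin 3) F →* SpecialLinearGroup (Fin (3 + j)) F) :=
    (relabel_injective _).comp (blk_injective _ _)
  exact Subgroup.card_dvd_of_injective _ h2

end fin

end Cfsg.Agent.H807.Fx
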